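import Groth.Agent.Pi1.H393.FiniteLevel
import Groth.Agent.Pi1.H393.Conv
import Groth.Agent.Pi1.H393.CoordMin
import Groth.Agent.Pi1.H395.Finite
import Groth.Agent.Pi1.H391.Stmts

/-!
# Purity over a normal base: `Stmts.StarNormal`
-/

set_option autoImplicit false

open CategoryTheory CategoryTheory.Limits AlgebraicGeometry MvPolynomial TensorProduct IsLocalRing

universe u

namespace Groth.Agent.Pi1.H393.StarNormal

open Pi1A.FEtAffine Pi1.H395.ExtBC Pi1.H395.Finite

/-- The basic open of `f`. -/
noncomputable abbrev bo {E : Type u} [CommRing E] (f : E) : (Spec (CommRingCat.of E)).Opens :=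
  PrimeSpectrum.basicOpen f

/-- The open where `f` is invertible is the spectrum of any localization away from `f`. -/
theorem exists_isoAway {E : Type u} [CommRing E] (f : E) (Et : Type u) [CommRing Et]
    [Algebra E Et] [IsLocalization.Away f Et] :
    ∃ i : (bo f : Scheme.{u}) ≅ Spec (CommRingCat.of Et), i.hom ≫ specMap E Et = (bo f).ι := by
  have : IsOpenImmersion (specMap E Et) := IsOpenImmersion.of_isLocalization f
  have h : Set.range (bo f).ι = Set.range (specMap E Et) := by
    rw [Scheme.Opens.range_ι]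
    exact (PrimeSpectrum.localization_away_comap_range Et f).symm
  exact ⟨IsOpenImmersion.isoOfRangeEq (bo f).ι (specMap E Et) h,
    IsOpenImmersion.isoOfRangeEq_hom_fac _ _ _⟩

/-- **Purity over a normal base.** -/
theorem starNormal : Pi1.H391.Stmts.StarNormal.{u} := by
  intro O R _ _ _ _ _ _ _ _ _ _ σ _ _ _ hL ι _ e he t ht htm Rt _ _ _ K _ _ _ _ _ C _ _ _ _ hB
  classical
  have hRdom : IsDomain R := (IsFractionRing.injective R K).isDomain
  choose B iB1 iB2 iB3 iB4 hprime iB6 D iD1 iD2 iD3 iD4 φ using hB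
  obtain ⟨O₁, hO1, hO2, E, iE1, iE2, iE3, iE4, iE5, iE6, hinj, hc, Et, iT1, iT2, iT3, C₁, iC1, iC2,
    iC3, iC4, ⟨a1, a2, a3, a4, ⟨ψ⟩⟩, hloc⟩ :=
    FiniteLevel.exists_finite_level hL e t ht Rt K C B D fun i => (φ i).some
  have hflat : Module.Flat (MvPolynomial σ O) R := hL.flat
  obtain ⟨j, hj⟩ := exists_isoAway (∏ i, algebraMap (MvPolynomial σ O₁) E (X (e i))) Et
  let V : FEt.Cat (coordOpen O₁ E e : Scheme.{u}) := Conv.coverOf Et C₁ j.hom
  let q : Ideal E := (maximalIdeal R).comap (algebraMap E R)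
  have hq : q.IsPrime := Ideal.comap_isPrime _ _
  -- the generic points of the hyperplanes
  have hext : ∀ i, ∃ (P : Ideal E) (_ : P.IsPrime),
      P ∈ (Ideal.span {coord O₁ E (e i)}).minimalPrimes ∧ P ≤ q ∧
        ExtOver V (Spec.map (CommRingCat.ofHom (algebraMap E (Localization.AtPrime P)))) := by
    intro i
    obtain ⟨hP, D₁, b1, b2, b3, b4, b5, b6, b7, b8, ⟨ψ'⟩⟩ := hloc i
    have hti : (Ideal.span {algebraMap (MvPolynomial σ O) R (X (e i))}).IsPrime := by
      rw [ht]; exact hprime i
    have hmin : (Ideal.span {t i}).comap (algebraMap E R) ∈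
        (Ideal.span {algebraMap (MvPolynomial σ O₁) E (X (e i))}).minimalPrimes := by
      have := CoordMin.comap_mem_minimalPrimes O₁ hc (e i)
      rwa [ht] at this
    refine ⟨_, hP, hmin, Ideal.comap_mono ((Ideal.span_singleton_le_iff_mem _).mpr (htm i)), ?_⟩
    -- the other coordinates do not vanish there
    have hs : (∏ j ∈ Finset.univ.erase i, algebraMap (MvPolynomial σ O₁) E (X (e j))) ∉
        (Ideal.span {t i}).comap (algebraMap E R) := by
      rw [Ideal.IsPrime.prod_mem_iff]
      rintro ⟨j, hj, hm⟩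
      rw [Ideal.mem_comap, CoordMin.algebraMap_coord O₁ hc, ← ht i] at hm
      have h1 := CoordMin.mem_span_X_of_mem_span (e i) hti.ne_top _ hm
      rw [Ideal.mem_span_singleton, X_dvd_X] at h1
      exact (Finset.mem_erase.mp hj).1 (he h1.symm)
    have hprod : (∏ j, algebraMap (MvPolynomial σ O₁) E (X (e j))) =
        algebraMap (MvPolynomial σ O₁) E (X (e i)) *
          ∏ j ∈ Finset.univ.erase i, algebraMap (MvPolynomial σ O₁) E (X (e j)) :=
      (Finset.mul_prod_erase Finset.univ _ (Finset.mem_univ i)).symm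
    have haway : IsLocalization.Away (algebraMap E (Localization.AtPrime
        ((Ideal.span {t i}).comap (algebraMap E R)))
          (∏ j, algebraMap (MvPolynomial σ O₁) E (X (e j)))) (FractionRing E) := by
      rw [hprod]
      exact CoordMin.isLocalization_away_fractionRing O₁ (e i) _ hmin _ (FractionRing E) _ hs
    have hpb := Conv.isPullback_away (At := Et) (B := Localization.AtPrime
        ((Ideal.span {t i}).comap (algebraMap E R))) (Bt := FractionRing E)
        (∏ j, algebraMap (MvPolynomial σ O₁) E (X (e j)))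
    exact (Conv.extOver_iff (C := C₁) j hj hpb).mpr ⟨D₁, b1, b2, b3, b4, ⟨ψ'⟩⟩
  have hR := extOver_of_local e q V hext R (algebraMap E R) rfl
  have hawayR : IsLocalization.Away (algebraMap E R
      (∏ j, algebraMap (MvPolynomial σ O₁) E (X (e j)))) Rt := by
    have h1 : algebraMap E R (∏ j, algebraMap (MvPolynomial σ O₁) E (X (e j))) = ∏ j, t j := by
      rw [map_prod]
      exact Finset.prod_congr rfl fun j _ => by rw [CoordMin.algebraMap_coord O₁ hc, ht]
    rw [h1]
    infer_instance
  have hpb := Conv.isPullback_away (At := Et) (B := R) (Bt := Rt)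
    (∏ j, algebraMap (MvPolynomial σ O₁) E (X (e j)))
  obtain ⟨E', c1, c2, c3, c4, ⟨ψ''⟩⟩ := (Conv.extOver_iff (C := C₁) j hj hpb).mp hR
  exact ⟨E', c1, c2, c3, c4, ⟨ψ''.trans ψ⟩⟩

end Groth.Agent.Pi1.H393.StarNormal
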