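import Groth.Agent.Pi1.H415.Glue

/-!
# S3691 from S3689 (`Abh`)

Kummer covers are cofinal among relatively tame covers.
-/

set_option autoImplicit false

universe u

open CategoryTheory CategoryTheory.Limits AlgebraicGeometry

namespace Groth.Agent.Pi1.H393.S3691_of

open Pi1.H415.Stmts Pi1.H415.SplitBC Pi1.H415.KumBC Pi1.H415.Glue

/-- S3691 from the relative Abhyankar lemma. -/
theorem main (hA : Abh.{u}) {X S : Scheme.{u}} (f : X ⟶ S) {r : ℕ} (φ : Fin r → Γ(X, ⊤))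
    (hD : SGA1t.IsRelSNC f φ) (x : X) (hx : Nonempty (SGA1t.vanishingAt φ x))
    (R : Type u) [CommRing R] [IsLocalRing R] [Algebra (X.presheaf.stalk x) R]
    [IsLocalHom (algebraMap (X.presheaf.stalk x) R)] [Hensel.IsStrictHenselization (X.presheaf.stalk x) R]
    (V₁ : FEt.Cat (SGA1t.compl (fun i => (Hens2.specOf X x R).appTop (φ i)) : Scheme.{u})) [ConnectedSpace V₁.left]
    (htame : SGA1t.IsRelTame (Hens2.specOf X x R ≫ f) (fun i => (Hens2.specOf X x R).appTop (φ i)) V₁) :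
    ∃ n : SGA1t.vanishingAt φ x → ℕ, (∀ i, 1 ≤ n i) ∧ (∀ i, IsUnit ((n i : ℕ) : X.residueField x)) ∧
      letI a : SGA1t.vanishingAt φ x → R := fun i =>
        algebraMap (X.presheaf.stalk x) R ((X.presheaf.germ ⊤ x trivial).hom (φ i.1))
      letI π : Spec (CommRingCat.of (SGA1t.kummer R a n)) ⟶ Spec (CommRingCat.of R) :=
        Spec.map (CommRingCat.ofHom (algebraMap R (SGA1t.kummer R a n)))
      letI U₁ := SGA1t.compl (fun i => (Hens2.specOf X x R).appTop (φ i))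
      ∃ ψ : (↑(π ⁻¹ᵁ U₁) : Scheme.{u}) ⟶ V₁.left, ψ ≫ V₁.hom = π ∣_ U₁ ∧ Surjective ψ := by
  obtain ⟨n, hn, hnu, hs⟩ := exists_split f φ hD x R hA hx V₁ htame
  refine ⟨n, hn, hnu, ?_⟩
  have h1 : Surjective (str R (eqs φ x R) n ∣_ cmpl φ x R) := surjective_restrict (eqs φ x R) n hn _
  have h2 : Etale (str R (eqs φ x R) n ∣_ cmpl φ x R) :=
    Pi1.H415.Glue.etale_restrict φ x R n hn hnu
  have h3 : IsFinite (str R (eqs φ x R) n ∣_ cmpl φ x R) := isFinite_restrict (eqs φ x R) n hn _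
  have h4 : IsFinite V₁.hom := V₁.prop.1
  have h5 : Etale V₁.hom := V₁.prop.2
  obtain ⟨t⟩ : Nonempty V₁.left := inferInstance
  obtain ⟨ψ, hψ, ht⟩ := exists_mem_range V₁.hom (str R (eqs φ x R) n ∣_ cmpl φ x R) hs t
  have hc := isClopen_range V₁.hom (str R (eqs φ x R) n ∣_ cmpl φ x R) ψ hψ
  have hV : ConnectedSpace ↥((𝟭 Scheme).obj V₁.left) := inferInstanceAs (ConnectedSpace V₁.left)
  refine ⟨ψ, hψ, ⟨fun y => ?_⟩⟩
  rcases isClopen_iff.mp hc with h6 | h6
  · rw [h6] at ht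
    exact ht.elim
  · have : y ∈ Set.range ψ := by rw [h6]; trivial
    exact this

end Groth.Agent.Pi1.H393.S3691_of
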